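import Mathlib
import Cfsg.Agent.W42.Data

/-! More finite facts on `D₈ ≀ 2`. -/

set_option autoImplicit false
set_option synthInstance.maxSize 8000

namespace Cfsg.Agent.W42

open Subgroup Cfsg.Agent.SylT

theorem D_gen : ∀ x ∈ kD, ∃ i : Fin 4, ∃ j : Fin 2, x = (u1 * v1) ^ i.val * u1 ^ j.val := by decide +kernel
theorem R_dec : ∀ x ∈ kR 0, ∃ v ∈ kV, x * v ∈ kD := by decide +kernel
theorem V_t : ∀ x ∈ kV, kt⁻¹ * x * kt ∈ kD := by decide +kernel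
theorem B_gen : ∀ x ∈ kB, ∃ a b c e : Fin 2, x = z1 ^ a.val * z2 ^ b.val * u1 ^ c.val * u2 ^ e.val := by
  decide +kernel
theorem B0_gen : ∀ x ∈ kB0, ∃ a b c : Fin 2, x = z1 ^ a.val * z2 ^ b.val * (u1 * u2) ^ c.val := by
  decide +kernel
theorem V_gen : ∀ x ∈ kV, ∃ a b : Fin 2, x = z2 ^ a.val * v2 ^ b.val := by decide +kernel
theorem z1_comm : ∀ k : K, z1 * k * z1⁻¹ * k⁻¹ = 1 ∨ z1 * k * z1⁻¹ * k⁻¹ = kz := by decide +kernel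
theorem qb_lab : ∀ y : K, y * y = 1 → (u1 * u2 * y * (u1 * u2)⁻¹ * y⁻¹ = 1 ∨
    u1 * u2 * y * (u1 * u2)⁻¹ * y⁻¹ = kz) → y ∈ kB ∨ lab y = 2 ∨ lab y = 6 := by decide +kernel
theorem qb_comm : ∀ k : K, (u1 * u2 * k * (u1 * u2)⁻¹ * k⁻¹ = 1 ∨ u1 * u2 * k * (u1 * u2)⁻¹ * k⁻¹ = kz) →
    ∀ x ∈ kB, x * k * x⁻¹ * k⁻¹ ∈ kB0 := by decide +kernel
theorem img_v : ∀ q ∈ kB, ∀ y ∈ kS, y * y = 1 → q * y * (q * y) = z2 →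
    y = v2 ∨ y = v2 * z2 ∨ lab y = 2 ∨ lab y = 5 := by decide +kernel
theorem img_u : ∀ q ∈ kB, q * v2 * (q * v2) = z2 →
    lab (z1 * q) = 5 ∨ lab q = 5 ∨ ∃ k ∈ kE 0 0, k * q * k⁻¹ = u1 * u2 := by decide +kernel
theorem img_p : ∀ p ∈ kB, p = u1 ∨ p = u1 * z1 ∨ (p = 1 ∨ p = z1 ∨ p = z2 ∨ p = kz) ∨ lab p = 5 ∨
    lab (p * z1) = 5 ∨ lab (p * z2) = 4 := by decide +kernel
theorem img_q : ∀ p ∈ kB, p = u2 ∨ p = u2 * z2 ∨ (p = 1 ∨ p = z1 ∨ p = z2 ∨ p = kz) ∨ lab p = 5 ∨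
    lab (p * z2) = 5 ∨ lab (p * z1) = 4 := by decide +kernel
theorem img_k : ∀ p, p = u1 ∨ p = u1 * z1 → ∀ q, q = u2 ∨ q = u2 * z2 → ∃ k : K, k * p * k⁻¹ = u1 ∧
    k * q * k⁻¹ = u2 ∧ k * z1 * k⁻¹ = z1 ∧ k * z2 * k⁻¹ = z2 := by decide +kernel
theorem mem_R0 : ∀ y : K, y * z1 = z1 * y → y * v2 = v2 * y → y ∈ kR 0 := by decide +kernel
theorem lab_V : ∀ v ∈ kV, v = 1 ∨ lab (v * z1) = 2 := by decide +kernel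
theorem A_V : ∀ k ∈ kE 0 0, ∀ v ∈ kV, k * v = v * k := by decide +kernel
theorem V_norm : ∀ v ∈ kV, u2 * v * u2⁻¹ ∈ kV := by decide +kernel
theorem V_comm : ∀ v ∈ kV, ∀ w ∈ kV, v * w = w * v := by decide +kernel
theorem V_sq : ∀ v ∈ kV, v * v = 1 := by decide +kernel
theorem lab_t : ∀ x ∈ [kz, v1 * v2, v1 * v2 * kt, u1 * u2, u1 * u2 * kt, v1 * v2 * kz, u1 * u2 * kz],
    lab x = 2 ∨ lab x = 4 ∨ lab x = 6 := by decide +kernel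

end Cfsg.Agent.W42
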