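import Mathlib
import Cfsg.Agent.W42.Data
import Cfsg.Agent.Transfer.PCompl

/-! Weak closure of the normal elementary abelian subgroups of order 16 of `D₈ ≀ 2`. -/

set_option autoImplicit false
set_option linter.unusedSectionVars false

namespace Cfsg.Agent.W42

open Subgroup Cfsg Cfsg.Agent.PLocal.Amb Cfsg.Agent.Gold Cfsg.Agent.BF Cfsg.Agent.SylT

variable {G : Type*} [Group G] [Finite G] {ι : K →* G} {g : G} {x y w : K} {i j k : Fin 2}

theorem cnt (i : Function.Injective ι) {s t : Finset K} (h : ∀ x ∈ s, ∃ y ∈ t, Cj ι g x y) :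
    s.card ≤ t.card := by
  choose! φ h1 h2 using h
  exact Finset.card_le_card_of_injOn φ h1 fun x hx y hy r => ((h2 x hx).eq_iff i (h2 y hy)).2 r

/-- fusion in the ambient group -/
def Fu (ι : K →* G) (x y : K) : Prop := ∃ g, Cj ι g x y

theorem Fu.refl (x : K) : Fu ι x x := ⟨1, Cj.refl x⟩
theorem Fu.symm (h : Fu ι x y) : Fu ι y x := h.elim fun _ e => ⟨_, e.symm⟩
theorem Fu.trans (h : Fu ι x y) (h' : Fu ι y w) : Fu ι x w :=
  h.elim fun _ e => h'.elim fun _ e' => ⟨_, e.trans e'⟩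
theorem Fu.of {k : K} (e : k * x * k⁻¹ = y) : Fu ι x y := ⟨_, Cj.of' e⟩

theorem az (d : MS ι ⊤) : ¬ Fu ι z1 kz := by
  rintro ⟨g, e⟩
  have i := d.inj
  obtain ⟨n, -, e1, e2⟩ := d.extr z_comm (mem_top g) e
  obtain ⟨y, ey⟩ := e2 kz (z_comm z1).symm
  refine (cnt_z y (ey.ne_one i z_ne) fun r => ?_).not_ge (cnt i (g := n) fun w hw => ?_)
  · exact absurd ((e1.eq_iff i ey).2 r.symm) (by decide +kernel)
  · obtain ⟨h1, h2⟩ := (Finset.mem_filter.1 hw).2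
    obtain ⟨w', ew⟩ := e2 w h2
    exact ⟨w', Finset.mem_filter.2 ⟨Finset.mem_univ _, ((ew.mul ew).eq_iff i e1).1 h1,
      (ew.comm i ey).1 (z_comm w)⟩, ew⟩

theorem z1_mem : z1 ∈ kS := by decide +kernel

theorem normS (d : MS ι ⊤) (h : cj(g, kS.map ι) ≤ ι.range) :
    g ∈ 𝐍[kS.map ι] ∧ (Cj ι g z1 z1 ∨ Cj ι g z1 z2) := by
  have i := d.inj
  obtain ⟨y, e⟩ := exists_cj_of_le' h z1_mem
  have k : ∀ x ∈ kS, ∃ x', Cj ι g x x' ∧ x' * y = y * x' := fun x hx =>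
    (exists_cj_of_le' h hx).imp fun x' e' => ⟨e', (e'.comm i e).1 ((cent_z1 x).2 hx)⟩
  rcases cnt_c y ((e.sq i).1 (by decide +kernel)) (e.ne_one i (by decide +kernel)) with r | r | r | r
  · exact absurd ⟨g, r ▸ e⟩ (az d)
  · subst r
    exact ⟨mem_normalizer_of_cj_le (cj_map_le fun x hx =>
      (k x hx).imp fun x' r => ⟨(cent_z1 x').1 r.2, r.1⟩), Or.inl e⟩
  · subst r
    exact ⟨mem_normalizer_of_cj_le (cj_map_le fun x hx =>
      (k x hx).imp fun x' r => ⟨(cent_z2 x').1 r.2, r.1⟩), Or.inr e⟩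
  · exact absurd (cnt i (g := g) fun x hx => (k x (Finset.mem_filter.1 hx).2).imp
      fun x' r => ⟨Finset.mem_filter.2 ⟨Finset.mem_univ _, r.2⟩, r.1⟩) r.not_ge

theorem sylS (d : MS ι ⊤) : IsSyl 2 (kS.map ι) 𝐜[ι z1] := by
  refine ⟨map_le_c fun u hu => (cent_z1 u).2 hu, d.pg _, fun R hR h1 h2 => ?_⟩
  obtain ⟨g, -, h3⟩ := d.syl.exists_cj_le hR le_top
  obtain ⟨h4, h5⟩ := normS d ((cj_mono g h1).trans h3)
  rw [← cj_le_cj_iff (g := g), cj_of_mem_normalizer h4]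
  intro a ha
  obtain ⟨x, rfl⟩ := h3 ha
  have h6 := cj_mono g h2 ha
  refine mem_map_of_mem ι ?_
  rcases h5 with e | e <;> rw [e.cent, mem_centralizer_singleton_iff, ← map_mul, ← map_mul] at h6
  exacts [(cent_z1 x).1 (d.inj h6), (cent_z2 x).1 (d.inj h6)]

/-- extremal conjugation onto `z1` -/
theorem extr1 (d : MS ι ⊤) (e : Fu ι y z1) :
    ∃ n, Cj ι n y z1 ∧ ∀ x, x * y = y * x → ∃ x' ∈ kS, Cj ι n x x' := by
  obtain ⟨g, e⟩ := e
  have k : cj(g, (𝐜[y]).map ι) ≤ 𝐜[ι z1] := by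
    rw [← e.cent]; exact cj_mono g (map_le_c fun r hr => mem_centralizer_singleton_iff.1 hr)
  obtain ⟨c, hc, k1⟩ := (sylS d).exists_cj_le (isPGroup_cj g (d.pg _)) k
  rw [← cj_mul] at k1
  exact ⟨c * g, e.trans (cj_self.2 hc), fun x hx =>
    exists_cj_of_le k1 (mem_centralizer_singleton_iff.2 hx)⟩

theorem card_E' (hi : Function.Injective ι) (i j : Fin 2) : Nat.card ((kE i j).map ι) = 16 := by
  rw [card_map_of_injective hi, card_E]

theorem E_map_inj (hi : Function.Injective ι) {i' j' : Fin 2} (h : (kE i j).map ι = (kE i' j').map ι) :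
    i = i' ∧ j = j' := E_inj i j i' j' fun _ hx => map_injective hi h ▸ hx

theorem e16 (hi : Function.Injective ι) (h : cj(g, (kE i j).map ι) ≤ ι.range) :
    ∃ i' j', cj(g, (kE i j).map ι) = (kE i' j').map ι := by
  have k1 : ∀ x ∈ kE i j, ∀ y, Cj ι g x y → y ∈ kS := fun x hx y e => by
    by_contra hy
    refine (cnt_S y hy).not_ge ((cnt_E i j).ge.trans (cnt hi (g := g) fun w hw => ?_))
    have hw := (Finset.mem_filter.1 hw).2
    obtain ⟨v, e'⟩ := exists_cj_of_le' h hw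
    exact ⟨v, Finset.mem_filter.2 ⟨Finset.mem_univ _, (e'.comm hi e).1 (E_comm i j w hw x hx),
      (e'.sq hi).1 (E_sq i j w hw)⟩, e'⟩
  have k2 : ∀ U : Fin 2 → Subgroup K, (∀ x ∈ kS, x * x = 1 → ∀ y ∈ kS, y * y = 1 → x * y = y * x →
      x ∉ U 0 → y ∈ U 1) → ∃ a, ∀ x ∈ kE i j, ∀ y, Cj ι g x y → y ∈ U a := fun U hU => by
    by_cases h0 : ∀ x ∈ kE i j, ∀ y, Cj ι g x y → y ∈ U 0
    · exact ⟨0, h0⟩
    push Not at h0
    obtain ⟨x0, hx0, y0, e0, h0⟩ := h0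
    exact ⟨1, fun x hx y e => hU y0 (k1 _ hx0 _ e0) ((e0.sq hi).1 (E_sq i j _ hx0)) y (k1 _ hx _ e)
      ((e.sq hi).1 (E_sq i j _ hx)) ((e0.comm hi e).1 (E_comm i j _ hx0 _ hx)) h0⟩
  obtain ⟨a, ha⟩ := k2 kL pairL
  obtain ⟨b, hb⟩ := k2 kR pairR
  refine ⟨a, b, eq_of_le_of_card_ge (cj_map_le fun x hx => ?_) (by rw [card_cj, card_E' hi, card_E' hi])⟩
  obtain ⟨y, e⟩ := exists_cj_of_le' h hx
  exact ⟨y, mem_E a b y (ha x hx y e) (hb x hx y e), e⟩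

theorem cj_t (hi : Function.Injective ι) (i j : Fin 2) :
    cj(ι kt, (kE i j).map ι) = (kE j i).map ι :=
  eq_of_le_of_card_ge (cj_map_le fun x hx => ⟨_, E_t i j x hx, Cj.of kt x⟩)
    (by rw [card_cj, card_E' hi, card_E' hi])

theorem range_le_N (ι : K →* G) (i : Fin 2) : ι.range ≤ 𝐍[(kE i i).map ι] := range_le_norm (E_norm i)

theorem push (d : MS ι ⊤) {P : Subgroup G} (hP : IsPGroup 2 P) (h : P ≤ 𝐍[(kE i i).map ι]) :
    ∃ c ∈ 𝐍[(kE i i).map ι], cj(c, P) ≤ ι.range :=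
  (d.syl.mono (range_le_N ι i) le_top).exists_cj_le hP h

theorem notAB (d : MS ι ⊤) (h : cj(g, (kE i i).map ι) = (kE j j).map ι) : i = j := by
  by_contra hij
  have hi := d.inj
  obtain ⟨c, hc, k1⟩ := push d (i := j) (isPGroup_cj g d.syl.pgrp) (by
    rw [← h, normalizer_cj]; exact cj_mono g (range_le_N ι i))
  rw [← cj_mul] at k1
  have k2 : cj(c * g, (kE i i).map ι) = (kE j j).map ι := by rw [cj_mul, h, cj_of_mem_normalizer hc]
  generalize c * g = n at k1 k2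
  have k3 := mem_normalizer_of_cj_le k1
  obtain ⟨a, b, k4⟩ := e16 hi (g := n) (i := j) (j := j) ((cj_mono n (map_le_range ι _)).trans k1)
  have k5 : ι kt ∈ 𝐍[(kE a b).map ι] := by
    rw [← k4, normalizer_cj]
    exact cj_mono n (range_le_N ι j) ((cj_of_mem_normalizer k3).ge ⟨kt, rfl⟩)
  obtain ⟨rfl, -⟩ := E_map_inj hi ((cj_of_mem_normalizer k5).symm.trans (cj_t hi a b))
  have k6 : a ≠ j := fun r => hij (E_map_inj hi (cj_inj.1 (k2.trans (r ▸ k4.symm)))).1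
  obtain rfl : a = i := by omega
  have k7 : n ^ 2 ∈ 𝐍[(kE a a).map ι] := by rw [← cj_eq_iff, sq, cj_mul, k2, k4]
  obtain ⟨u, v, hu, ⟨m, rfl⟩, hu2, hv, e⟩ := Transfer.exists_pPart_mul (p := 2) n
  have k8 : u ∈ 𝐍[(kE a a).map ι] := range_le_N ι a (d.syl.le_of_normalizes (isPGroup_zpowers hu2) le_top
    (zpowers_le.2 (zpowers_le.2 k3 hu)) (mem_zpowers u))
  have k9 : n ^ m ∈ 𝐍[(kE a a).map ι] := mem_of_pow_mem_of_coprime (n := 2) (by
    rw [← zpow_natCast, ← zpow_mul, mul_comm, zpow_mul, zpow_natCast]; exact zpow_mem k7 m) hv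
  have k10 : n ∈ 𝐍[(kE a a).map ι] := e ▸ mul_mem k8 k9
  exact hij (E_map_inj hi ((cj_of_mem_normalizer k10).symm.trans k2)).1

theorem notCA (d : MS ι ⊤) (hij : i ≠ j) (h : cj(g, (kE i j).map ι) = (kE k k).map ι) : False := by
  have hi := d.inj
  obtain ⟨c, hc, k1⟩ := push d (i := k) (isPGroup_cj g (d.pg kS)) (by
    rw [← h, normalizer_cj]
    refine cj_mono g ?_
    rintro _ ⟨s, hs, rfl⟩
    exact mem_norm_map (E_normS i j s hs))
  rw [← cj_mul] at k1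
  have k2 : cj(c * g, (kE i j).map ι) = (kE k k).map ι := by rw [cj_mul, h, cj_of_mem_normalizer hc]
  generalize c * g = n at k1 k2
  have k3 := (normS d k1).1
  obtain ⟨a, b, k4⟩ := e16 hi (g := n) (i := j) (j := i)
    ((cj_mono n (map_mono fun x hx => E_le_S j i x hx)).trans k1)
  by_cases hab : a = b
  · subst hab
    have k5 : cj(n * ι kt * n⁻¹, (kE k k).map ι) = (kE a a).map ι := by
      rw [cj_mul, cj_mul, ← k2, cj_inv_cj, cj_t hi, k4]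
    obtain rfl := notAB d k5
    exact hij (E_map_inj hi (cj_inj.1 (k2.trans k4.symm))).1
  · obtain ⟨y, h1, h2, w, h3, h4⟩ := E_meet k a b
    obtain ⟨x, hx, e⟩ := exists_cj_of_le (g := n⁻¹) (U := kE k k) (W := kE i j)
      (by rw [← k2, cj_inv_cj]) h1
    obtain ⟨x', hx', e'⟩ := exists_cj_of_le (g := n⁻¹) (U := kE a b) (W := kE j i)
      (by rw [← k4, cj_inv_cj]) (h2 hab)
    obtain rfl := (e.eq_iff hi e').1 rfl
    obtain ⟨w', hw', ew⟩ := exists_cj_of_norm (inv_mem k3) h3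
    exact h4 ((ew.comm hi e).2 (E_meet' i j hij x hx hx' w' hw'))

/-- weak closure -/
theorem wc (d : MS ι ⊤) (h : cj(g, (kE i i).map ι) ≤ ι.range) : g ∈ 𝐍[(kE i i).map ι] := by
  obtain ⟨a, b, e⟩ := e16 d.inj h
  by_cases hab : a = b
  · subst hab
    obtain rfl := notAB d e
    exact cj_eq_iff.1 e
  · exact (notCA d hab (g := g⁻¹) (k := i) (by rw [← e, cj_inv_cj])).elim

theorem wc' (d : MS ι ⊤) (h : ∀ x ∈ kE i i, ∃ y, Cj ι g x y) : g ∈ 𝐍[(kE i i).map ι] :=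
  wc d (cj_le_iff_forall.2 (by
    rintro _ ⟨x, hx, rfl⟩
    obtain ⟨y, e⟩ := h x hx
    exact ⟨y, Eq.symm e⟩))

theorem typC (d : MS ι ⊤) (hij : i ≠ j) (h : ∀ x ∈ kE i j, ∃ y, Cj ι g x y) :
    ∃ a b, a ≠ b ∧ ∀ x ∈ kE i j, ∀ y, Cj ι g x y → y ∈ kE a b := by
  obtain ⟨a, b, e⟩ := e16 d.inj (g := g) (i := i) (j := j) (cj_le_iff_forall.2 (by
    rintro _ ⟨x, hx, rfl⟩
    obtain ⟨y, e⟩ := h x hx
    exact ⟨y, Eq.symm e⟩))
  refine ⟨a, b, fun r => notCA d hij (r ▸ e), fun x hx y e' => ?_⟩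
  obtain ⟨w, hw, e''⟩ := exists_cj_of_le e.le hx
  rwa [(e'.eq_iff d.inj e'').1 rfl]

theorem B_le_c (ι : K →* G) (hx : x ∈ kB) : kB.map ι ≤ 𝐜[ι x] := map_le_c fun u hu => E_comm 1 1 u hu x hx

theorem pushB (d : MS ι ⊤) {L : Subgroup G} (hA : kB.map ι ≤ L) (h : cj(g, kB.map ι) ≤ L) :
    ∃ c ∈ L, c * g ∈ 𝐍[kB.map ι] := by
  obtain ⟨T, hT, k1⟩ := exists_isSyl_ge (d.pg kB) hA
  obtain ⟨c, hc, k2⟩ := hT.exists_cj_le (isPGroup_cj g (d.pg kB)) h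
  obtain ⟨k, -, k3⟩ := d.syl.exists_cj_le hT.pgrp le_top
  have k4 := wc d ((cj_mono k k1).trans k3)
  have k5 := wc d (g := k * (c * g)) (by rw [cj_mul, cj_mul]; exact (cj_mono k k2).trans k3)
  exact ⟨c, hc, (Subgroup.mul_mem_cancel_left _ k4).1 k5⟩

/-- `N(B)` controls fusion in `B` -/
theorem ctlB (d : MS ι ⊤) (hx : x ∈ kB) (hy : y ∈ kB) (e : Fu ι x y) :
    ∃ n ∈ 𝐍[kB.map ι], Cj ι n x y := by
  obtain ⟨g, e⟩ := e
  obtain ⟨c, hc, h⟩ := pushB d (g := g) (B_le_c ι hy) (e.cent ▸ cj_mono g (B_le_c ι hx))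
  exact ⟨c * g, h, e.trans (cj_self.2 hc)⟩

end Cfsg.Agent.W42
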