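import Mathlib
import Cfsg.Agent.S3035
import Cfsg.Agent.Class.LinearBasic
import Cfsg.Agent.Grp.Cores
import Cfsg.Agent.Gold.Defs

/-! A group with an involution whose centralizer is the dihedral subgroup of an `S₄`, with two
automorphisms centralizing the `S₄`. -/

set_option autoImplicit false

namespace Cfsg.Agent.W42

open Subgroup Cfsg Cfsg.Agent.PLocal.Amb Cfsg.Agent.Gold Equiv

/-- a transposition -/
def pu : Perm (Fin 4) := swap 0 1
/-- a double transposition -/
def pz : Perm (Fin 4) := swap 0 1 * swap 2 3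
/-- another double transposition -/
def pv : Perm (Fin 4) := swap 0 2 * swap 1 3
/-- a 3-cycle -/
def pc : Perm (Fin 4) := swap 1 3 * swap 1 2

/-- the dihedral subgroup -/
def dih : DihedralGroup 4 →* Perm (Fin 4) := MonoidHom.mk' (fun x => match x with
    | DihedralGroup.r i => (pu * pv) ^ i.val
    | DihedralGroup.sr i => pu * (pu * pv) ^ i.val) (by decide +kernel)

theorem dih_inj : ∀ x, dih x = 1 → x = 1 := by decide +kernel
theorem dih_mem : ∀ s : Perm (Fin 4), s * pz = pz * s ↔ ∃ x, dih x = s := by decide +kernel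

theorem rank_lift {N Y : Type*} [Group N] [Group Y] [Finite N] (f : N →* Y) (hf : Function.Surjective f)
    (hk : IsPGroup 2 f.ker) (h : PRankLE 3 2 N) : PRankLE 3 2 Y := fun E hE h3 => by
  have : Fact (Nat.Prime 3) := ⟨Nat.prime_three⟩
  have : Finite Y := Finite.of_surjective f hf
  obtain ⟨T, hT⟩ := exists_isSyl 3 (E.comap f)
  have h1 := hT.map f
  rw [map_comap_eq_self_of_surjective hf] at h1
  have h2 : E = T.map f := h1.eq (isPGroup_iff.2 fun x hx => ⟨1, by rw [pow_one, h3 x hx]⟩) h1.le le_rfl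
  have h4 : ∀ x ∈ T, f x = 1 → x = 1 := fun x hx e => by
    obtain ⟨k, hk'⟩ := isPGroup_iff.1 hk x e
    exact eq_one_of_isPGroup_of_coprime hT.pgrp hx (Nat.Coprime.coprime_dvd_left
      (orderOf_dvd_of_pow_eq_one hk') (Nat.Coprime.pow_left k (by norm_num)))
  refine le_trans ?_ (h T ⟨⟨fun a b => Subtype.ext ?_⟩⟩ fun a ha => h4 _ (pow_mem ha 3) ?_)
  · rw [h2]; exact Nat.card_le_card_of_surjective _ (f.subgroupMap_surjective T)
  · have := congrArg Subtype.val (hE.1.1 ⟨f a, hT.le a.2⟩ ⟨f b, hT.le b.2⟩)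
    simp only [coe_mul] at this ⊢
    rw [← mul_inv_eq_one]
    exact h4 _ (mul_mem (mul_mem a.2 b.2) (inv_mem (mul_mem b.2 a.2))) (by
      rw [map_mul, map_inv, map_mul, map_mul, this, mul_inv_cancel])
  · rw [map_pow]; exact h3 _ (hT.le ha)

theorem no_sign {X : Type*} [Group X] (θ : Perm (Fin 4) →* X) (hi : Function.Injective θ) {σ : X}
    (e : σ * θ pu * σ⁻¹ = θ pz) {n : ℕ} (hn : ¬ 48 ∣ (n + 2).factorial) (φ : X ≃* Perm (Fin (n + 2))) :
    False := by
  let s : X →* ℤˣ := Perm.sign.comp φ.toMonoidHom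
  have h1 : s (θ pu) = 1 := by
    have := congrArg s e
    rw [map_mul, map_mul, map_inv, mul_inv_cancel_comm, show pz = (pu * pv) ^ 2 by decide +kernel,
      map_pow, map_pow, Int.units_sq] at this
    exact this
  have h2 : ∀ p, s (θ p) = 1 := fun p => by
    have h3 : ∀ c, s (θ (c * pu * c⁻¹)) = 1 := fun c => by
      rw [map_mul, map_mul, map_mul, map_mul, h1, mul_one, ← map_mul, ← map_mul, mul_inv_cancel, map_one,
        map_one]
    obtain ⟨a, b, c, r | r⟩ : ∃ a b c, p = a * pu * a⁻¹ * (b * pu * b⁻¹) ∨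
        p = a * pu * a⁻¹ * (b * pu * b⁻¹) * (c * pu * c⁻¹) := by revert p; decide +kernel
    · rw [r, map_mul, map_mul, h3, h3, mul_one]
    · rw [r, map_mul, map_mul, map_mul θ, map_mul, h3, h3, h3, mul_one, mul_one]
  have h4 := card_dvd_of_injective ((φ.toMonoidHom.comp θ).codRestrict (alternatingGroup (Fin (n + 2)))
    fun p => Perm.mem_alternatingGroup.2 (h2 p)) fun a b r => hi (φ.injective (congrArg Subtype.val r))
  have h5 := two_mul_nat_card_alternatingGroup (α := Fin (n + 2))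
  rw [Nat.card_perm, Nat.card_fin] at h4 h5
  exact hn (h5 ▸ Nat.mul_dvd_mul_left 2 h4)

theorem alt6_cube : ∀ x : Perm (Fin 6), x ^ 9 = 1 → x ^ 3 = 1 := by decide +kernel

theorem s4_a : ∀ y : Perm (Fin 4), y * pz = pz * y → y * y = 1 → y ≠ 1 → y ≠ pz →
    ∃ x, x * pz = pz * x ∧ x * y * x⁻¹ = y * pz := by decide +kernel
theorem s4_b : ∀ r : Perm (Fin 4), r * pz = pz * r → r * pu = pu * r → r * r = 1 := by decide +kernel

theorem endgame {Y : Type*} [Group Y] [Finite Y] (L : Subgroup Y) [hLn : L.Normal] (θ : Perm (Fin 4) →* Y)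
    (hi : Function.Injective θ) (hL : ∀ s, θ s ∈ L) (hc : ∀ y ∈ L, y * θ pz = θ pz * y → y ∈ θ.range)
    {σ σ' α τ : Y} (hσ : σ ∈ L) (e : σ * θ pu * σ⁻¹ = θ pz) (hσ' : σ' ∈ L)
    (e' : σ' * α * σ'⁻¹ = θ pu * α) (hα : ∀ s, α * θ s = θ s * α) (hτ : ∀ s, τ * θ s = θ s * τ)
    (h3 : τ ^ 3 = 1) (hn : τ ∉ L) : ¬ PRankLE 3 2 Y := fun hr => by
  let θ' : Perm (Fin 4) →* L := θ.codRestrict L hL
  have hi' : Function.Injective θ' := fun a b r => hi (congrArg Subtype.val r)
  have hz : orderOf (θ' pz) = 2 := by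
    rw [orderOf_injective θ' hi']; exact orderOf_eq_prime (by decide +kernel) (by decide +kernel)
  have hD : Nonempty (𝐜[θ' pz] ≃* DihedralGroup 4) := by
    refine ⟨(MulEquiv.ofBijective ((θ'.comp dih).codRestrict 𝐜[θ' pz] fun x => ?_) ⟨?_, ?_⟩).symm⟩
    · rw [mem_centralizer_singleton_iff, MonoidHom.comp_apply, ← map_mul, ← map_mul,
        (dih_mem _).2 ⟨x, rfl⟩]
    · exact (injective_iff_map_eq_one _).2 fun x r =>
        dih_inj x (hi' ((congrArg Subtype.val r).trans (map_one θ').symm))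
    · rintro ⟨y, hy⟩
      have h1 := congrArg Subtype.val (mem_centralizer_singleton_iff.1 hy)
      obtain ⟨s, hs⟩ := hc y y.2 h1
      obtain ⟨x, rfl⟩ := (dih_mem s).1 (hi (by rw [map_mul, map_mul, hs]; exact h1))
      exact ⟨x, Subtype.ext (Subtype.ext hs)⟩
  have h24 : ∀ a : Y, (∀ s, a * θ s = θ s * a) → θ'.range ≤ (𝐜[a]).subgroupOf L := by
    rintro a ha _ ⟨s, rfl⟩
    exact mem_centralizer_singleton_iff.2 (ha s).symm
  have c24 : Nat.card θ'.range = 24 := by
    rw [← Nat.card_congr (MonoidHom.ofInjective hi').toEquiv, Nat.card_perm, Nat.card_fin]; rfl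
  have e0 : (⟨σ, hσ⟩ : L) * θ' pu * (⟨σ, hσ⟩ : L)⁻¹ = θ' pz := Subtype.ext e
  rcases S3035.result (θ' pz) hz hD with h | ⟨⟨φ⟩⟩ | ⟨⟨φ⟩⟩ | ⟨⟨φ⟩⟩ | ⟨⟨φ⟩⟩
  · obtain ⟨a, ha, o, ho, r⟩ := (mem_sup_of_le_normalizer_right (x := θ' pc)
      ((normalizer_eq_top (oddCore L)).symm ▸ le_top)).1 (h.symm ▸ mem_top _)
    have h1 : θ' (pc⁻¹ * pz * pc * pz⁻¹) ∈ oddCore L := by
      rw [map_mul, map_mul, map_mul, map_inv, map_inv, r, mul_inv_rev, mul_assoc o⁻¹, mul_assoc o⁻¹,
        mul_assoc a⁻¹, ← mul_assoc _ a, ← mem_centralizer_singleton_iff.1 ha, mul_assoc a,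
        inv_mul_cancel_left, mul_assoc]
      exact mul_mem (inv_mem ho) ((inferInstance : (oddCore L).Normal).conj_mem o ho _)
    have h2 := Grp.orderOf_coprime_of_mem_pPrimeCore h1
    rw [orderOf_injective θ' hi', orderOf_eq_prime (p := 2) (by decide +kernel) (by decide +kernel)] at h2
    exact absurd h2 (by norm_num)
  · exact no_sign θ' hi' e0 (n := 2) (by decide) φ
  · exact no_sign θ' hi' e0 (n := 3) (by decide) φ
  · have h1 : Nat.card L = 168 := by
      have h := Class.card_units_mul_card_SL (ι := Fin 3) (R := ZMod 2)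
      rw [Matrix.card_GL_field, Nat.card_units, Nat.card_eq_fintype_card (α := ZMod 2), ZMod.card] at h
      rw [Nat.card_congr φ.toEquiv]
      simpa [Fin.prod_univ_three] using h
    have h2 := ((𝐜[α]).subgroupOf L).card_mul_index
    have h4 := card_le_of_le (h24 α hα)
    have h5 : ∀ p : {p : Perm (Fin 4) // p = 1 ∨ ∃ c, c * pu * c⁻¹ = p}, ∃ x : L,
        x * α * (x : Y)⁻¹ = θ p * α := by
      rintro ⟨p, rfl | ⟨c, rfl⟩⟩
      · exact ⟨1, by simp⟩
      · refine ⟨⟨θ c * σ', mul_mem (hL c) hσ'⟩, ?_⟩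
        have := hα c⁻¹
        simp only [map_mul, map_inv] at this ⊢
        calc _ = θ c * (σ' * α * σ'⁻¹) * (θ c)⁻¹ := by group
          _ = _ := by rw [e', mul_assoc, mul_assoc, this]; group
    choose x hx using h5
    let γ : L := ⟨σ'⁻¹ * θ pc * σ', mul_mem (mul_mem (inv_mem hσ') (hL _)) hσ'⟩
    have h6 : ∀ p, γ * α * (γ : Y)⁻¹ ≠ θ p * α := fun p r => by
      have h7 : γ * α * (γ : Y)⁻¹ * α = α * (γ * α * (γ : Y)⁻¹) := by rw [r, ← mul_assoc, hα]
      have h8 : θ pc * (σ' * α * σ'⁻¹) * (θ pc)⁻¹ * (σ' * α * σ'⁻¹) =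
          σ' * α * σ'⁻¹ * (θ pc * (σ' * α * σ'⁻¹) * (θ pc)⁻¹) := by
        have := congrArg (fun y => σ' * y * σ'⁻¹) h7
        simp only [γ] at this
        calc _ = σ' * (σ'⁻¹ * θ pc * σ' * α * (σ'⁻¹ * θ pc * σ')⁻¹ * α) * σ'⁻¹ := by group
          _ = _ := by rw [this]; group
      have h9 : θ pc * (θ pu * α) * (θ pc)⁻¹ = θ (pc * pu * pc⁻¹) * α := by
        rw [mul_assoc, mul_assoc, ← map_inv, hα, map_mul, map_mul]; group
      have k : ∀ p q, θ p * α * (θ q * α) = θ (p * q) * (α * α) := fun p q => by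
        rw [mul_assoc, ← mul_assoc α, hα, map_mul]; group
      rw [e', h9, k, k] at h8
      exact absurd (hi (mul_right_cancel h8)) (by decide +kernel)
    have h7 : ∀ a b : L, (a : L ⧸ (𝐜[α]).subgroupOf L) = b → a * α * (a : Y)⁻¹ = b * α * (b : Y)⁻¹ :=
      fun a b r => by
        have := mem_centralizer_singleton_iff.1 (mem_subgroupOf.1 (QuotientGroup.eq.1 r))
        rw [coe_mul, coe_inv] at this
        calc _ = a * (α * ((a : Y)⁻¹ * b)) * (b : Y)⁻¹ := by group
          _ = _ := by rw [← this]; group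
    have h8 := Nat.card_le_card_of_injective
      (fun o : Option {p : Perm (Fin 4) // p = 1 ∨ ∃ c, c * pu * c⁻¹ = p} =>
        ((o.elim γ x : L) : L ⧸ (𝐜[α]).subgroupOf L)) (by
      rintro (_ | p) (_ | q) r
      · rfl
      · exact absurd ((h7 _ _ r).trans (hx q)) (h6 q)
      · exact absurd ((h7 _ _ r).symm.trans (hx p)) (h6 p)
      · exact congrArg some (Subtype.ext (hi (mul_right_cancel
          ((hx p).symm.trans ((h7 _ _ r).trans (hx q)))))))
    rw [Nat.card_eq_fintype_card, Fintype.card_option, show Fintype.card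
      {p : Perm (Fin 4) // p = 1 ∨ ∃ c, c * pu * c⁻¹ = p} = 7 by decide +kernel, ← index_eq_card] at h8
    rw [c24] at h4
    rw [h1] at h2
    nlinarith
  · have : Fact (Nat.Prime 3) := ⟨Nat.prime_three⟩
    have : IsSimpleGroup (alternatingGroup (Fin 6)) := alternatingGroup.isSimpleGroup (by simp)
    have : IsSimpleGroup L := φ.isSimpleGroup
    have h1 : Nat.card L = 360 := by
      have := two_mul_nat_card_alternatingGroup (α := Fin 6)
      rw [Nat.card_perm, Nat.card_fin] at this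
      rw [Nat.card_congr φ.toEquiv]
      norm_num [Nat.factorial] at this ⊢; omega
    have k1 : ∀ {y}, y ∈ L → y * θ pu = θ pu * y → ∃ s, s * pz = pz * s ∧ σ * y * σ⁻¹ = θ s :=
      fun {y} hy r => by
        have r' : σ * y * σ⁻¹ * θ pz = θ pz * (σ * y * σ⁻¹) := by
          rw [← e]
          calc _ = σ * (y * θ pu) * σ⁻¹ := by group
            _ = _ := by rw [r]; group
        obtain ⟨s, hs⟩ := hc _ (hLn.conj_mem y hy σ) r'
        exact ⟨s, hi (by rw [map_mul, map_mul, hs, r']), hs.symm⟩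
    obtain ⟨y, y1, y2⟩ := k1 (hL pz) (by rw [← map_mul, ← map_mul]; congr 1; decide +kernel)
    obtain ⟨x, x1, x2⟩ : ∃ x, x * pz = pz * x ∧ x * y * x⁻¹ = y * pz := by
      have y3 : y * y = 1 := hi (by
        rw [map_mul, ← y2, map_one, conj_mul, ← map_mul, show pz * pz = 1 by decide +kernel]; simp)
      have y4 : y ≠ 1 := fun r => absurd (hi (by simpa [r] using y2 : θ pz = θ 1)) (by decide +kernel)
      have y5 : y ≠ pz := fun r => absurd (hi (mul_left_cancel (mul_right_cancel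
        (y2.trans ((congrArg θ r).trans e.symm))))) (by decide +kernel)
      exact s4_a y y1 y3 y4 y5
    obtain ⟨w, wL, w1, w2⟩ : ∃ w ∈ L, w * θ pu * w⁻¹ = θ pu ∧ w * θ pz * w⁻¹ = θ (pz * pu) := by
      refine ⟨σ⁻¹ * θ x * σ, mul_mem (mul_mem (inv_mem hσ) (hL x)) hσ, ?_, ?_⟩
      · calc _ = σ⁻¹ * (θ x * (σ * θ pu * σ⁻¹) * (θ x)⁻¹) * σ := by group
          _ = σ⁻¹ * (σ * θ pu * σ⁻¹) * σ := by rw [e, ← map_mul, x1, map_mul, mul_inv_cancel_right]
          _ = _ := by group
      · calc _ = σ⁻¹ * (θ x * (σ * θ pz * σ⁻¹) * (θ x)⁻¹) * σ := by group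
          _ = σ⁻¹ * (σ * θ pz * σ⁻¹ * (σ * θ pu * σ⁻¹)) * σ := by
            rw [y2, e, ← map_inv, ← map_mul, ← map_mul, x2, map_mul]
          _ = _ := by rw [map_mul]; group
    have k2 : ∀ {a b}, w * θ a * w⁻¹ = θ b → w⁻¹ * (τ * w * τ⁻¹) * θ a = θ a * (w⁻¹ * (τ * w * τ⁻¹)) :=
      fun {a b} r => by
        have r1 : τ⁻¹ * θ a = θ a * τ⁻¹ := by rw [inv_mul_eq_iff_eq_mul, ← mul_assoc, hτ]; group
        have r2 : θ a = w⁻¹ * θ b * w := by rw [← r]; group
        calc _ = w⁻¹ * τ * (w * (τ⁻¹ * θ a) * τ * w⁻¹) * w * τ⁻¹ := by group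
          _ = w⁻¹ * (τ * θ b) * w * τ⁻¹ := by rw [r1, ← r]; group
          _ = _ := by rw [hτ, r2]; group
    obtain ⟨r, hr1⟩ := hc _ (mul_mem (inv_mem wL) (hLn.conj_mem w wL τ)) (k2 w2)
    have r2 : r * r = 1 := by
      have a1 : r * pz = pz * r := hi (by rw [map_mul, map_mul, hr1, k2 w2])
      have a2 : r * pu = pu * r := hi (by rw [map_mul, map_mul, hr1, k2 w1])
      exact s4_b r a1 a2
    have w3 : w * τ = τ * w := by
      have a1 : τ * w = w * θ r * τ := by rw [hr1]; group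
      have st : ∀ s, τ * (w * θ s) = w * θ (r * s) * τ := fun s => by
        rw [← mul_assoc, a1, mul_assoc _ τ, hτ, map_mul]; group
      have a2 : τ ^ 3 * w = w * θ (r * r * r) * τ ^ 3 := by
        calc _ = τ * (τ * (τ * w)) := by rw [pow_three]; group
          _ = τ * (τ * (w * θ r)) * τ := by rw [a1]; group
          _ = τ * (w * θ (r * r)) * τ * τ := by rw [st]; group
          _ = _ := by rw [st, pow_three, mul_assoc r]; group
      rw [h3, r2, one_mul, mul_one, one_mul] at a2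
      rw [a1, ← a2]
    have k3 : (𝐜[τ]).subgroupOf L = ⊤ := by
      by_contra hne
      have a1 := Class.SmallIso.card_dvd_factorial_of_core
        (((normalCore_normal _).eq_bot_or_eq_top).resolve_right fun r =>
          hne (top_le_iff.1 (r.ge.trans (normalCore_le _))))
      have a2 := ((𝐜[τ]).subgroupOf L).card_mul_index
      obtain ⟨m, a3⟩ := card_dvd_of_le (h24 τ hτ)
      have a4 : m ≠ 1 := fun r => by
        obtain ⟨s, hs⟩ := (eq_of_le_of_card_ge (h24 τ hτ) (by rw [a3, r, mul_one])).ge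
          (show (⟨w, wL⟩ : L) ∈ _ from mem_centralizer_singleton_iff.2 w3)
        have hs' : θ s = w := congrArg Subtype.val hs
        rw [← hs', ← map_inv, ← map_mul, ← map_mul] at w2
        exact absurd (hi w2) (by clear * -; revert s; decide +kernel)
      rw [a3, c24, h1] at a2
      rw [h1] at a1
      generalize ((𝐜[τ]).subgroupOf L).index = j at a1 a2
      have a5 : j ≤ 5 := by
        by_contra a5
        have a6 : m ≤ 2 := by nlinarith
        interval_cases m <;> omega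
      interval_cases j <;> exact absurd a1 (by decide)
    obtain ⟨P⟩ : Nonempty (Sylow 3 L) := inferInstance
    have p9 : Nat.card P = 3 ^ 2 := by
      rw [P.card_eq_multiplicity, h1, show 360 = 3 ^ 2 * 40 from rfl,
        Nat.factorization_mul (by norm_num) (by norm_num), Nat.Prime.factorization_pow Nat.prime_three]
      simp [Nat.factorization_eq_zero_of_not_dvd (show ¬ 3 ∣ 40 by norm_num)]
    have pc := (IsPGroup.isMulCommutative_of_card_eq_prime_sq p9).1.1
    have p3 : ∀ a : (P : Subgroup L), a ^ 3 = 1 := fun a => Subtype.ext (φ.injective (Subtype.ext (by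
      have := congrArg (fun b : (P : Subgroup L) => (φ b : Perm (Fin 6))) (pow_card_eq_one' (x := a))
      simp only [OneMemClass.coe_one, map_one, SubgroupClass.coe_pow, map_pow] at this ⊢
      rw [p9] at this
      exact alt6_cube _ this)))
    let f := (L.subtype.comp (P : Subgroup L).subtype).noncommCoprod (zpowers τ).subtype fun a b => by
      obtain ⟨_, k, rfl⟩ := b
      exact (Commute.zpow_right (mem_centralizer_singleton_iff.1
        (mem_subgroupOf.1 (k3.ge (mem_top (a : L))))) k)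
    have a1 := hr f.range ⟨⟨by
      rintro ⟨_, a, rfl⟩ ⟨_, b, rfl⟩
      refine Subtype.ext ?_
      change f a * f b = f b * f a
      rw [← map_mul, ← map_mul]
      exact congrArg f (Prod.ext (pc _ _) (mul_comm' _ _))⟩⟩ (by
      rintro _ ⟨⟨a, _, k, rfl⟩, rfl⟩
      rw [← map_pow, ← map_one f]
      refine congrArg f (Prod.ext (p3 a) (Subtype.ext ?_))
      change (τ ^ k) ^ 3 = 1
      rw [← zpow_natCast, ← zpow_mul, mul_comm, zpow_mul, zpow_natCast, h3, one_zpow])
    have a2 : (P : Subgroup L).map L.subtype ≤ f.range := by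
      rintro _ ⟨a, ha, rfl⟩
      exact ⟨(⟨a, ha⟩, 1), by simp [f]⟩
    obtain ⟨a, -, ha⟩ := (eq_of_le_of_card_ge a2 (by
      rw [card_map_of_injective L.subtype_injective, p9]; exact a1)).ge
      (show τ ∈ f.range from ⟨(1, ⟨τ, mem_zpowers τ⟩), by simp [f]⟩)
    exact hn (ha ▸ a.2)

end Cfsg.Agent.W42
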