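import Mathlib
import Cfsg.Agent.W42.Wc
import Cfsg.Agent.W42.Facts
import Cfsg.Agent.W42.End
import Cfsg.Agent.PLocal.CharP
import Cfsg.Agent.PLocal.CommMod

/-! Fusion of involutions in a group containing `S₄ ≀ 2` with odd index. -/

set_option autoImplicit false
set_option linter.unusedSectionVars false

namespace Cfsg.Agent.W42

open Subgroup Cfsg Cfsg.Agent.PLocal Cfsg.Agent.PLocal.Amb Cfsg.Agent.Gold Cfsg.Agent.BF Cfsg.Agent.SylT
open Equiv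
open CommMod (centMod inf_normalizer_le_normalizer_centMod)
open scoped commutatorElement

variable {G : Type*} [Group G] [Finite G] {ι : K →* G} {θ : Perm (Fin 4) →* G} {g : G} {x y w : K}

/-- the standing hypotheses -/
structure DS (ι : K →* G) (θ : Perm (Fin 4) →* G) : Prop extends MS ι ⊤ where
  tinj : Function.Injective θ
  tu : θ pu = ι u1
  tv : θ pv = ι v1
  comm : ∀ s s', θ s * (ι kt * θ s' * (ι kt)⁻¹) = ι kt * θ s' * (ι kt)⁻¹ * θ s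
  idx : ∀ M : Subgroup G, M.index ≠ 2
  ch : 𝐜[ι kz] ⊓ 𝐂[pCoreOf 2 𝐜[ι kz]] ≤ pCoreOf 2 𝐜[ι kz]

theorem Cj.pow (a : Cj ι g x y) (n : ℕ) : Cj ι g (x ^ n) (y ^ n) := by
  unfold Cj at *; rw [map_pow, map_pow, ← a, conj_pow]

theorem DS.exD (d : DS ι θ) (hx : x ∈ kD) : ∃ s, θ s = ι x := by
  obtain ⟨i, j, rfl⟩ := D_gen x hx
  exact ⟨(pu * pv) ^ i.val * pu ^ j.val, by simp [d.tu, d.tv]⟩

theorem DS.tz1 (d : DS ι θ) : θ pz = ι z1 := by
  rw [show pz = (pu * pv) ^ 2 by decide +kernel, show z1 = (u1 * v1) ^ 2 by decide +kernel]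
  simp [d.tu, d.tv]

theorem DS.r1 (d : DS ι θ) : Cj ι (θ pc) z1 v1 := by
  rw [Cj, ← d.tz1, ← d.tv, ← map_inv, ← map_mul, ← map_mul]; congr 1; decide +kernel

theorem DS.c1 (d : DS ι θ) (s : Perm (Fin 4)) (hx : kt⁻¹ * x * kt ∈ kD) : Cj ι (θ s) x x := by
  obtain ⟨s', e⟩ := d.exD hx
  have := d.comm s s'
  rw [e, map_mul, map_mul, map_inv] at this
  rw [Cj, mul_inv_eq_iff_eq_mul]
  simpa [mul_assoc] using this

theorem DS.r2 (d : DS ι θ) : Cj ι (ι kt * θ pc * (ι kt)⁻¹) z2 v2 := by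
  have := ((Cj.of' (ι := ι) (k := kt) (x := z1) (y := z2) (by decide +kernel)).symm.trans d.r1).trans
    (Cj.of' (k := kt) (y := v2) (by decide +kernel))
  rwa [← mul_assoc] at this

theorem DS.c2 (d : DS ι θ) (s : Perm (Fin 4)) (hx : x ∈ kD) : Cj ι (ι kt * θ s * (ι kt)⁻¹) x x := by
  obtain ⟨s', e⟩ := d.exD hx
  rw [Cj, mul_inv_eq_iff_eq_mul, ← e, d.comm]

theorem DS.fu_rep (d : DS ι θ) (h : lab x ≠ 0) : Fu ι x (rep (lab x)) := by
  have h1 : Fu ι (v1 * z2) kz := ⟨_, (d.r1.mul (d.c1 pc (x := z2) (by decide +kernel))).symm⟩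
  obtain ⟨k, r | ⟨l, r⟩ | ⟨l, r | r⟩ | ⟨l, r⟩⟩ := cls x h
  · exact Fu.of r
  · rw [l]; exact (Fu.of r).trans ⟨_, d.r1.symm⟩
  · rw [l]; exact (Fu.of r).trans h1
  · rw [l]
    exact (Fu.of r).trans (Fu.trans ⟨_, ((d.c2 pc (x := v1) (by decide +kernel)).mul d.r2).symm⟩ h1)
  · rw [l]; exact (Fu.of r).trans ⟨_, ((d.c2 pc (x := u1) (by decide +kernel)).mul d.r2).symm⟩

theorem DS.f1 (d : DS ι θ) (h : lab x = 1) : Fu ι x z1 := by simpa [h, rep] using d.fu_rep (x := x)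
theorem DS.f2 (d : DS ι θ) (h : lab x = 2) : Fu ι x kz := by simpa [h, rep] using d.fu_rep (x := x)
theorem DS.f3 (d : DS ι θ) (h : lab x = 3) : Fu ι x u1 := by simpa [h, rep] using d.fu_rep (x := x)
theorem DS.f4 (d : DS ι θ) (h : lab x = 4) : Fu ι x (u1 * u2) := by
  simpa [h, rep] using d.fu_rep (x := x)
theorem DS.f5 (d : DS ι θ) (h : lab x = 5) : Fu ι x (u1 * z2) := by
  simpa [h, rep] using d.fu_rep (x := x)
theorem DS.f6 (d : DS ι θ) (h : lab x = 6) : Fu ι x kt := by simpa [h, rep] using d.fu_rep (x := x)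

theorem DS.no (d : DS ι θ) (h1 : Fu ι x z1) (h2 : Fu ι x kz) : False := az d.toMS (h1.symm.trans h2)

theorem f21 : Fu ι z2 z1 := Fu.of (k := kt) (by decide +kernel)

theorem DS.fuC (d : DS ι θ) (hx : x ∈ kE 1 0) (h1 : x ≠ 1) : Fu ι x z1 ∨ Fu ι x kz := by
  obtain ⟨g, y, hy, e, h⟩ := d.toMS.thompson d.idx card_M (E_sq 1 0 x hx)
  obtain ⟨a, b, hab, k⟩ := typC d.toMS (g := g) (i := 1) (j := 0) (by decide)
    fun w hw => h w (E_comm 1 0 w hw x hx)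
  exact (lab_MC y hy (e.ne_one d.inj h1) a b hab (k x hx y e)).imp
    (fun r => Fu.trans ⟨g, e⟩ (d.f1 r)) fun r => Fu.trans ⟨g, e⟩ (d.f2 r)

theorem DS.fub (d : DS ι θ) : Fu ι u1 z1 ∨ Fu ι u1 kz := d.fuC (by decide +kernel) (by decide +kernel)
theorem DS.fud (d : DS ι θ) : Fu ι (u1 * z2) z1 ∨ Fu ι (u1 * z2) kz :=
  d.fuC (by decide +kernel) (by decide +kernel)

theorem DS.fuc (d : DS ι θ) : Fu ι (u1 * u2) z1 ∨ Fu ι (u1 * u2) kz := by
  by_contra hn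
  have k : ∀ x ∈ kB, Fu ι (u1 * u2) x → lab x = 4 := fun x hx e => by
    have k' : ¬ (Fu ι x z1 ∨ Fu ι x kz) := fun r => hn (r.imp e.trans e.trans)
    rcases lab_B x hx with r | r | r | r | r | r | r
    · obtain ⟨g, e⟩ := e
      exact absurd r (e.ne_one d.inj (by decide +kernel))
    · exact absurd (Or.inr (r ▸ Fu.refl x)) k'
    · exact absurd (Or.inl (r ▸ Fu.refl x)) k'
    · exact absurd (Or.inl (r ▸ f21)) k'
    · exact absurd (d.fub.imp (d.f3 r).trans (d.f3 r).trans) k'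
    · exact r
    · exact absurd (d.fud.imp (d.f5 r).trans (d.f5 r).trans) k'
  have k2 : ∀ y ∈ kB, lab (u1 * u2 * y) = 4 → ¬ Fu ι y u1 := fun y hy l e => by
    obtain ⟨n, hn, e⟩ := ctlB d.toMS hy (by decide +kernel) e
    obtain ⟨a, ha, ea⟩ := exists_cj_of_norm hn (x := u1 * u2) (by decide +kernel)
    obtain ⟨b, hb, eb⟩ := exists_cj_of_norm hn (x := u1 * u2 * y) (mul_mem (by decide +kernel) hy)
    refine c_diff a ha (k a ha ⟨n, ea⟩) b hb (k b hb ((d.f4 l).symm.trans ⟨n, eb⟩)) ?_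
    rw [((ea.mul eb).eq_iff d.inj e).1 (by
      rw [← mul_assoc, show u1 * u2 * (u1 * u2) = 1 by decide +kernel, one_mul])]
    decide +kernel
  rcases d.fub with r | r
  · exact k2 z1 (by decide +kernel) (by decide +kernel) r.symm
  · exact k2 kz (by decide +kernel) (by decide +kernel) r.symm

theorem DS.sq (d : DS ι θ) (hw : w ∈ kS) (e : Cj ι g kz (w * w)) : w * w = kz := by
  rcases sq_S w hw ((e.sq d.inj).1 z_sq) with r | r | r | r
  · exact absurd r (e.ne_one d.inj z_ne)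
  · exact r
  · exact (d.no ⟨g, r ▸ e⟩ (Fu.refl _)).elim
  · exact (d.no (Fu.trans ⟨g, r ▸ e⟩ f21) (Fu.refl _)).elim

theorem DS.fut (d : DS ι θ) : Fu ι kt kz := by
  have h : ¬ Fu ι kt z1 := fun h => by
    obtain ⟨n, e, k⟩ := extr1 d.toMS h
    obtain ⟨p, hp, ep⟩ := k (v1 * v2) (by decide +kernel)
    obtain ⟨q, hq, eq⟩ := k (u1 * u2) (by decide +kernel)
    have e2 := (ep.mul eq).mul (ep.mul eq)
    rw [show v1 * v2 * (u1 * u2) * (v1 * v2 * (u1 * u2)) = kz by decide +kernel] at e2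
    obtain ⟨l1, l2⟩ := ta p hp ((ep.sq d.inj).1 (by decide +kernel)) q hq
      ((eq.sq d.inj).1 (by decide +kernel)) (d.sq (mul_mem hp hq) e2)
    refine d.no (x := p) ?_ (Fu.trans ⟨_, ep.symm⟩ (d.f2 (by decide +kernel)))
    exact ((d.fu_rep l2).trans (l1 ▸ (d.fu_rep (l1 ▸ l2)).symm)).trans
      (Fu.trans ⟨_, (ep.mul e).symm⟩ ((d.f6 (by decide +kernel)).trans h))
  obtain ⟨g, y, hy, e, -⟩ := d.toMS.thompson d.idx card_M (x := kt) (by decide +kernel)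
  rcases lab_M y hy (e.ne_one d.inj (by decide +kernel)) ((e.sq d.inj).1 (by decide +kernel)) with r | r | r
  · exact absurd (Fu.trans ⟨g, e⟩ (d.f1 r)) h
  · exact Fu.trans ⟨g, e⟩ (d.f2 r)
  · exact (d.fuc.imp (Fu.trans ⟨g, e⟩ (d.f4 r)).trans (Fu.trans ⟨g, e⟩ (d.f4 r)).trans).resolve_left h

theorem DS.bdz (d : DS ι θ) (h1 : Fu ι u1 kz) (h2 : Fu ι (u1 * z2) kz) : False := by
  have k : ∀ x ∈ kB, Fu ι x z1 → x ∈ kB0 := fun x hx e => by
    rcases lab_B x hx with r | r | r | r | r | r | r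
    · exact r ▸ one_mem _
    · exact r ▸ (by decide +kernel)
    · exact r ▸ (by decide +kernel)
    · exact r ▸ (by decide +kernel)
    · exact (d.no e ((d.f3 r).trans h1)).elim
    · exact mem_B0 x hx (Or.inr r)
    · exact (d.no e ((d.f5 r).trans h2)).elim
  obtain ⟨n, hn, e⟩ := ctlB d.toMS (by decide +kernel) (by decide +kernel) h1.symm
  obtain ⟨a, ha, ea⟩ := exists_cj_of_norm hn (x := z1) (by decide +kernel)
  obtain ⟨b, hb, eb⟩ := exists_cj_of_norm hn (x := z2) (by decide +kernel)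
  have := mul_mem (k a ha ⟨_, ea.symm⟩) (k b hb (Fu.trans ⟨_, eb.symm⟩ f21))
  rw [((ea.mul eb).eq_iff d.inj e).1 (by decide +kernel)] at this
  exact absurd this (by decide +kernel)

theorem DS.ca (d : DS ι θ) : Fu ι (u1 * u2) z1 := by
  refine d.fuc.resolve_right fun hc => ?_
  obtain ⟨g, e⟩ := d.fut
  obtain ⟨n, -, e, k⟩ := d.toMS.extr z_comm (mem_top g) e
  obtain ⟨p, ep⟩ := k (v1 * v2) (by decide +kernel)
  obtain ⟨q, eq⟩ := k (u1 * u2) (by decide +kernel)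
  have e2 := (ep.mul eq).mul (ep.mul eq)
  rw [show v1 * v2 * (u1 * u2) * (v1 * v2 * (u1 * u2)) = kz by decide +kernel] at e2
  have k1 : ∀ x ∈ [kz, v1 * v2, v1 * v2 * kt, u1 * u2, u1 * u2 * kt, v1 * v2 * kz, u1 * u2 * kz], ∀ {y},
      Cj ι n x y → Fu ι y kz := fun x hx y r => Fu.trans ⟨_, r.symm⟩ (by
    rcases lab_t x hx with l | l | l
    exacts [d.f2 l, (d.f4 l).trans hc, (d.f6 l).trans d.fut])
  have k2 : ∀ y ∈ [p * q * (p * q), p, p * kz, q, q * kz, p * (p * q * (p * q)), q * (p * q * (p * q))],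
      Fu ι y kz := by
    simp only [List.forall_mem_cons] at k1 ⊢
    obtain ⟨a1, a2, a3, a4, a5, a6, a7, -⟩ := k1
    exact ⟨a1 e2, a2 ep, a3 (ep.mul e), a4 eq, a5 (eq.mul e), a6 (ep.mul e2), a7 (eq.mul e2), by simp⟩
  have k3 : ∀ y ∈ [p, p * kz, q, q * kz], Fu ι y kz := fun y hy => k2 y (by
    simp only [List.mem_cons] at hy ⊢; tauto)
  rcases tz p ((ep.sq d.inj).1 (by decide +kernel)) q ((eq.sq d.inj).1 (by decide +kernel))
    (e2.ne_one d.inj z_ne) (fun r => absurd ((e2.eq_iff d.inj e).2 r) (by decide +kernel))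
    ((e2.sq d.inj).1 z_sq) with ⟨x, hx, l⟩ | ⟨⟨x, hx, l⟩, x', hx', l'⟩
  · exact d.no (d.f1 l) (k2 x hx)
  · exact d.bdz ((d.f3 l).symm.trans (k3 x hx)) ((d.f5 l').symm.trans (k3 x' hx'))

theorem DS.exb (d : DS ι θ) (h : Fu ι u1 z1) : ∃ n ∈ 𝐍[kB.map ι], Cj ι n u1 z1 ∧ Cj ι n z2 z2 ∧
    ∃ y ∈ kS, Cj ι n v2 y := by
  obtain ⟨n, e, k⟩ := extr1 d.toMS h
  obtain ⟨w, hw, ew⟩ := k (u2 * v2) (by decide +kernel)
  have e2 := ew.mul ew
  rw [show u2 * v2 * (u2 * v2) = z2 by decide +kernel] at e2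
  refine ⟨n, wc' d.toMS fun x hx => (k x (E_comm 1 1 x hx u1 (by decide +kernel))).imp fun _ r => r.2, e,
    ?_, k v2 (by decide +kernel)⟩
  rcases sq_S w hw ((e2.sq d.inj).1 (by decide +kernel)) with r | r | r | r
  · exact absurd r (e2.ne_one d.inj (by decide +kernel))
  · exact (d.no f21 ⟨n, r ▸ e2⟩).elim
  · exact absurd ((e2.eq_iff d.inj e).2 r) (by decide +kernel)
  · exact r ▸ e2

theorem DS.bda (d : DS ι θ) (h1 : Fu ι u1 z1) (h2 : Fu ι (u1 * z2) z1) : False := by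
  obtain ⟨n, hn, e1, e2, -⟩ := d.exb h1
  obtain ⟨a, ha, ea⟩ := exists_cj_of_norm hn (x := kz) (by decide +kernel)
  have k : ¬ Fu ι a z1 := fun r => d.no r ⟨_, ea.symm⟩
  rcases lab_B a ha with r | r | r | r | r | r | r
  · exact ea.ne_one d.inj z_ne r
  · subst r
    exact absurd (((ea.mul e2).eq_iff d.inj e1).2 (by decide +kernel)) (by decide +kernel)
  · exact k (r ▸ Fu.refl _)
  · exact k (r ▸ f21)
  · exact k ((d.f3 r).trans h1)
  · exact k ((d.f4 r).trans d.ca)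
  · exact k ((d.f5 r).trans h2)

theorem stab {H W : Subgroup G} (hc : H ⊓ 𝐂[pCoreOf 2 H] ≤ pCoreOf 2 H) (hW : H ≤ 𝐍[W])
    (pW : IsPGroup 2 W) : H ⊓ (centMod (pCoreOf 2 H) W ⊓ 𝐂[W]) ≤ pCoreOf 2 H ∧
      H ≤ 𝐍[H ⊓ (centMod (pCoreOf 2 H) W ⊓ 𝐂[W])] := by
  have h := le_normalizer_inf (le_normalizer (H := H)) (le_normalizer_inf
    ((le_inf (le_normalizer_pCoreOf 2 H) hW).trans (inf_normalizer_le_normalizer_centMod _ _))
    (le_normalizer_centralizer hW))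
  refine ⟨le_pCoreOf (isPGroup_of_forall_coprime fun g hg ho =>
    eq_one_of_isPGroup_of_coprime (isPGroup_pCoreOf 2 H) (hc ⟨hg.1,
      CP.mem_centralizer_of_chain ho (fun n => [pCoreOf 2 H, W].getD n ⊥) (fun n => ?_) 2 rfl
        fun n hn a ha => ?_⟩) ho) inf_le_left h, h⟩
  · rcases n with _ | _ | n
    exacts [isPGroup_pCoreOf 2 H, pW, IsPGroup.of_bot]
  · rcases n with _ | _ | n
    · exact hg.2.1.2 a ha
    · exact commutatorElement_eq_one_iff_mul_comm.2 (hg.2.2 a ha).symm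
    · omega

theorem range_le_c (ι : K →* G) : ι.range ≤ 𝐜[ι kz] := range_le_c' ι z_comm

theorem DS.normB (d : DS ι θ) : 𝐜[ι kz] ≤ 𝐍[kB.map ι] ∧ kB.map ι ≤ pCoreOf 2 𝐜[ι kz] := by
  have i := d.inj
  have hQ := (d.toMS.mono (range_le_c ι) le_top).syl.pCoreOf_le
  have hz : ι kz * ι kz = 1 := by rw [← map_mul, z_sq, map_one]
  have mz : ∀ {a b : K}, ⁅ι a, ι b⁆ ∈ zpowers (ι kz) ↔ a * b * a⁻¹ * b⁻¹ = 1 ∨ a * b * a⁻¹ * b⁻¹ = kz := by
    intro a b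
    rw [← map_commutatorElement, commutatorElement_def, TT.mem_zpowers_invol hz, ← map_one ι, i.eq_iff,
      i.eq_iff]
  obtain ⟨D1, D2⟩ := stab d.ch (W := zpowers (ι kz))
    (Amb.centralizer_zpowers (ι kz) ▸ centralizer_le_normalizer' _)
    (isPGroup_zpowers ⟨1, by rw [pow_one, pow_two, hz]⟩)
  obtain ⟨W, W1, W2, W3⟩ : ∃ W : Subgroup G, 𝐜[ι kz] ≤ 𝐍[W] ∧ ι z1 ∈ W ∧ ∀ X : Subgroup G,
      (∀ h ∈ 𝐜[ι kz], h * ι z1 * h⁻¹ ∈ X) → W ≤ X := by
    refine ⟨closure {a | ∃ h ∈ 𝐜[ι kz], h * ι z1 * h⁻¹ = a}, fun g hg => mem_normalizer_of_cj_le ?_,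
      subset_closure ⟨1, one_mem _, by simp⟩, fun X hX => (closure_le _).2 ?_⟩
    · rw [cj_le_iff, closure_le]
      rintro _ ⟨h, hh, rfl⟩
      exact mem_cj.2 (subset_closure ⟨g * h, mul_mem hg hh, by group⟩)
    · rintro _ ⟨h, hh, rfl⟩
      exact hX h hh
  have T1 : ∀ k, ι k ∈ 𝐜[ι kz] := fun k => range_le_c ι ⟨k, rfl⟩
  have Z1 := (Amb.centralizer_zpowers (ι kz)).ge
  have W4 := W3 _ fun h hh => conj_mem_of_mem_normalizer (D2 hh) ⟨T1 z1,
    ⟨centralizer_le_normalizer' _ (Z1 (T1 z1)), fun q hq => by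
      obtain ⟨k, rfl⟩ := hQ hq
      exact mz.2 (z1_comm k)⟩, Z1 (T1 z1)⟩
  have W5 : ι (u1 * u2) ∈ W := by
    obtain ⟨n, e, k⟩ := extr1 d.toMS d.ca
    obtain ⟨w, hw, ew⟩ := k (z1 * kt) (by decide +kernel)
    have e2 := ew.mul ew
    rw [show z1 * kt * (z1 * kt) = kz by decide +kernel] at e2
    rw [d.sq hw e2] at e2
    exact e.symm ▸ conj_mem_of_mem_normalizer (W1 (inv_mem (cj_self.1 e2))) W2
  have W6 : ∀ k, ι k ∈ pCoreOf 2 𝐜[ι kz] → u1 * u2 * k * (u1 * u2)⁻¹ * k⁻¹ = 1 ∨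
      u1 * u2 * k * (u1 * u2)⁻¹ * k⁻¹ = kz := fun k hk => mz.1 ((W4 W5).2.1.2 _ hk)
  have W7 : W ≤ kB.map ι := W3 _ fun h hh => by
    have h1 := D1 (W4 (conj_mem_of_mem_normalizer (W1 hh) W2))
    obtain ⟨y, e⟩ := exists_cj' (hQ h1)
    rw [e] at h1 ⊢
    rcases qb_lab y ((e.sq i).1 (by decide +kernel)) (W6 y h1) with r | r | r
    · exact mem_map_of_mem ι r
    · exact (d.no ⟨_, e.symm⟩ (d.f2 r)).elim
    · exact (d.no ⟨_, e.symm⟩ ((d.f6 r).trans d.fut)).elim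
  have W8 : ∀ x ∈ kB0, ι x ∈ W := fun x hx => by
    obtain ⟨a, b, c, rfl⟩ := B0_gen x hx
    have : ι z2 ∈ W := Cj.of' (ι := ι) (k := kt) (x := z1) (y := z2) (by decide +kernel) ▸
      conj_mem_of_mem_normalizer (W1 (T1 kt)) W2
    rw [map_mul, map_mul, map_pow, map_pow, map_pow]
    exact mul_mem (mul_mem (pow_mem W2 _) (pow_mem this _)) (pow_mem W5 _)
  have hB : kB.map ι ≤ pCoreOf 2 𝐜[ι kz] := by
    rintro _ ⟨x, hx, rfl⟩
    refine (stab d.ch W1 ((d.pg kB).to_le W7)).1 ⟨T1 x, ⟨W1 (T1 x), fun q hq => ?_⟩, fun a ha => ?_⟩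
    · obtain ⟨k, rfl⟩ := hQ hq
      rw [← map_commutatorElement]
      exact W8 _ (qb_comm k (W6 k hq) x hx)
    · exact mem_centralizer_singleton_iff.1 (B_le_c ι hx (W7 ha))
  exact ⟨fun h hh => wc d.toMS ((cj_le_of_mem_normalizer hB (le_normalizer_pCoreOf 2 _ hh)).trans hQ), hB⟩

theorem DS.centB (d : DS ι θ) (h : ∀ x ∈ kB, Cj ι g x x) : g ∈ kB.map ι := by
  have hQ := (d.toMS.mono (range_le_c ι) le_top).syl.pCoreOf_le
  have h1 := cj_self.1 (h kz (by decide +kernel))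
  have h2 : g ∈ 𝐂[kB.map ι] := by
    rintro _ ⟨x, hx, rfl⟩
    exact (mem_centralizer_singleton_iff.1 (cj_self.1 (h x hx))).symm
  have h3 : ∀ a ∈ pCoreOf 2 𝐜[ι kz], a ∈ 𝐂[kB.map ι] → a ∈ kB.map ι := fun a ha hb => by
    obtain ⟨k, rfl⟩ := hQ ha
    exact mem_map_of_mem ι (cent_E 1 1 k fun y hy => d.inj (by
      rw [map_mul, map_mul]; exact hb _ (mem_map_of_mem ι hy)))
  refine h3 g ((stab d.ch d.normB.1 (d.pg kB)).1 ⟨h1, ⟨d.normB.1 h1, fun q hq => h3 _ ?_ ?_⟩, h2⟩) h2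
  · exact mul_mem (conj_mem_of_mem_normalizer (le_normalizer_pCoreOf 2 _ h1) hq) (inv_mem hq)
  · rw [commutatorElement_def, mul_assoc, mul_assoc, ← mul_assoc q]
    exact mul_mem h2 (conj_mem_of_mem_normalizer (normalizer_le_normalizer_centralizer _
      (range_le_N ι 1 (hQ hq))) (inv_mem h2))

theorem DS.ba (d : DS ι θ) : Fu ι u1 z1 := by
  refine d.fub.resolve_right fun h => ?_
  obtain ⟨n, hn, e⟩ := ctlB d.toMS (by decide +kernel) (by decide +kernel) h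
  have h1 := d.normB.1 (e.cent.le (conj_mem_cj n (cj_self.1 (d.c2 pc (x := u1) (by decide +kernel)))))
  have h2 := (Subgroup.mul_mem_cancel_left _ hn).1 ((Subgroup.mul_mem_cancel_right _ (inv_mem hn)).1 h1)
  exact absurd (d.r2.mem_of_norm d.inj h2 (by decide +kernel)) (by decide +kernel)

theorem DS.dz (d : DS ι θ) : Fu ι (u1 * z2) kz := d.fud.resolve_left (d.bda d.ba)

theorem DS.sig (d : DS ι θ) : ∃ σ, Cj ι σ u1 z1 ∧ Cj ι σ z2 z2 ∧ Cj ι σ v2 v2 ∧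
    ∃ k ∈ kE 0 0, Cj ι (ι k * σ) u2 (u1 * u2) := by
  obtain ⟨n, hn, e1, e2, e3⟩ : ∃ n ∈ 𝐍[kB.map ι], Cj ι n u1 z1 ∧ Cj ι n z2 z2 ∧ Cj ι n v2 v2 := by
    obtain ⟨n, hn, e1, e2, y, hy, e3⟩ := d.exb d.ba
    obtain ⟨q, hq, e4⟩ := exists_cj_of_norm hn (x := u2) (by decide +kernel)
    have k : Fu ι y z1 := Fu.trans ⟨_, e3.symm⟩ (d.f1 (by decide +kernel))
    rcases img_v q hq y hy ((e3.sq d.inj).1 (by decide +kernel))
      ((((e4.mul e3).mul (e4.mul e3)).eq_iff d.inj e2).1 (by decide +kernel)) with r | r | r | r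
    · exact ⟨n, hn, e1, e2, r ▸ e3⟩
    · exact ⟨ι u2 * n, mul_mem (range_le_N ι 1 ⟨u2, rfl⟩) hn, e1.trans (Cj.of' (by decide +kernel)),
        e2.trans (Cj.of' (by decide +kernel)), (r ▸ e3).trans (Cj.of' (by decide +kernel))⟩
    · exact (d.no k (d.f2 r)).elim
    · exact (d.no k ((d.f5 r).trans d.dz)).elim
  obtain ⟨q, hq, e4⟩ := exists_cj_of_norm hn (x := u2) (by decide +kernel)
  refine ⟨n, e1, e2, e3, ?_⟩
  rcases img_u q hq ((((e4.mul e3).mul (e4.mul e3)).eq_iff d.inj e2).1 (by decide +kernel)) with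
    r | r | ⟨k, hk, r⟩
  · exact (d.no (Fu.trans ⟨_, (e1.mul e4).symm⟩ d.ca) ((d.f5 r).trans d.dz)).elim
  · exact (d.no (Fu.trans ⟨_, e4.symm⟩ ((d.f3 (by decide +kernel)).trans d.ba)) ((d.f5 r).trans d.dz)).elim
  · exact ⟨k, hk, e4.trans (Cj.of' r)⟩

theorem DS.cK (d : DS ι θ) (e1 : Cj ι g z1 z1) (e2 : Cj ι g z2 z2) (e3 : Cj ι g v2 v2) :
    g ∈ (kR 0).map ι := by
  have i := d.inj
  have ez : Cj ι g kz kz := by simpa [show z1 * z2 = kz by decide +kernel] using e1.mul e2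
  have hn := d.normB.1 (cj_self.1 ez)
  have k : ∀ {x y}, Cj ι g x y → (y = 1 ∨ y = z1 ∨ y = z2 ∨ y = kz) → x = 1 ∨ x = z1 ∨ x = z2 ∨ x = kz :=
    fun e r => r.imp (e.eq_iff i Cj.one).2 (Or.imp (e.eq_iff i e1).2
      (Or.imp (e.eq_iff i e2).2 (e.eq_iff i ez).2))
  have k1 : ∀ {x y}, Cj ι g x y → lab x = 3 → lab y ≠ 5 := fun e l r =>
    d.no (Fu.trans ⟨_, e.symm⟩ ((d.f3 l).trans d.ba)) ((d.f5 r).trans d.dz)
  have k2 : ∀ {x y}, Cj ι g x y → lab x = 5 → lab y ≠ 4 := fun e l r =>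
    d.no ((d.f4 r).trans d.ca) (Fu.trans ⟨_, e.symm⟩ ((d.f5 l).trans d.dz))
  obtain ⟨p, hp, ep⟩ := exists_cj_of_norm hn (x := u1) (by decide +kernel)
  obtain ⟨q, hq, eq⟩ := exists_cj_of_norm hn (x := u2) (by decide +kernel)
  obtain ⟨k, r1, r2, r3, r4⟩ := img_k p (by
    rcases img_p p hp with r | r | r | r | r | r
    exacts [Or.inl r, Or.inr r, absurd (k ep r) (by decide +kernel), absurd r (k1 ep (by decide +kernel)),
      absurd r (k1 (ep.mul e1) (by decide +kernel)), absurd r (k2 (ep.mul e2) (by decide +kernel))]) q (by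
    rcases img_q q hq with r | r | r | r | r | r
    exacts [Or.inl r, Or.inr r, absurd (k eq r) (by decide +kernel), absurd r (k1 eq (by decide +kernel)),
      absurd r (k1 (eq.mul e2) (by decide +kernel)), absurd r (k2 (eq.mul e1) (by decide +kernel))])
  obtain ⟨b, -, hb⟩ := d.centB (g := ι k * g) fun x hx => by
    obtain ⟨a, b, c, e, rfl⟩ := B_gen x hx
    exact (((Cj.pow (e1.trans (Cj.of' r3)) _).mul (Cj.pow (e2.trans (Cj.of' r4)) _)).mul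
      (Cj.pow (ep.trans (Cj.of' r1)) _)).mul (Cj.pow (eq.trans (Cj.of' r2)) _)
  obtain ⟨y, rfl⟩ : ∃ y, g = ι y := ⟨k⁻¹ * b, by rw [map_mul, hb, map_inv, inv_mul_cancel_left]⟩
  have k3 : ∀ {x}, Cj ι (ι y) x x → y * x = x * y := fun {x} e => i (by
    rw [map_mul, map_mul]; exact mem_centralizer_singleton_iff.1 (cj_self.1 e))
  exact mem_map_of_mem ι (mem_R0 y (k3 e1) (k3 e3))

theorem s4_c : ∀ s : Perm (Fin 4), (∀ s', s' * s = s * s') → s = 1 := by decide +kernel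

theorem DS.main (d : DS ι θ) : ¬ PRankLE 3 2 𝐍[kV.map ι] := fun h => by
  have i := d.inj
  have cV : ∀ {g}, Cj ι g z2 z2 → Cj ι g v2 v2 → g ∈ 𝐂[kV.map ι] := by
    rintro g e1 e2 _ ⟨x, hx, rfl⟩
    obtain ⟨a, b, rfl⟩ := V_gen x hx
    exact (mem_centralizer_singleton_iff.1 (cj_self.1 ((Cj.pow e1 _).mul (Cj.pow e2 _)))).symm
  have cV' : ∀ {g x}, g ∈ 𝐂[kV.map ι] → x ∈ kV → Cj ι g x x := fun hg hx =>
    cj_self.2 (mem_centralizer_singleton_iff.2 (hg _ (mem_map_of_mem ι hx)).symm)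
  have VC : kV.map ι ≤ 𝐂[kV.map ι] := by
    rintro _ ⟨x, hx, rfl⟩ _ ⟨y, hy, rfl⟩
    rw [← map_mul, ← map_mul, V_comm x hx y hy]
  have CN := centralizer_le_normalizer' (kV.map ι)
  have θC : ∀ s, θ s ∈ 𝐂[kV.map ι] := fun s =>
    cV (d.c1 s (by decide +kernel)) (d.c1 s (by decide +kernel))
  let π := QuotientGroup.mk' ((kV.map ι).subgroupOf 𝐍[kV.map ι])
  have hπ := QuotientGroup.mk'_surjective ((kV.map ι).subgroupOf 𝐍[kV.map ι])
  have π1 : ∀ {a}, π a = 1 ↔ (a : G) ∈ kV.map ι := fun {a} => QuotientGroup.eq_one_iff a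
  have : ((𝐂[kV.map ι]).subgroupOf 𝐍[kV.map ι]).Normal :=
    (normal_subgroupOf_iff_le_normalizer CN).2 (normalizer_le_normalizer_centralizer _)
  have := (this.map π hπ)
  let θ' := θ.codRestrict 𝐍[kV.map ι] fun s => CN (θC s)
  have mL : ∀ {a}, π a ∈ ((𝐂[kV.map ι]).subgroupOf 𝐍[kV.map ι]).map π ↔ (a : G) ∈ 𝐂[kV.map ι] := by
    refine fun {a} => ⟨?_, fun r => mem_map_of_mem π r⟩
    rintro ⟨b, hb, r⟩
    have : ((b⁻¹ * a : 𝐍[kV.map ι]) : G) ∈ kV.map ι := π1.1 (by rw [map_mul, map_inv, r, inv_mul_cancel])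
    exact (Subgroup.mul_mem_cancel_left _ (inv_mem hb)).1 (VC this)
  obtain ⟨σ, s1, s2, s3, k, hk, s4⟩ := d.sig
  have σC := cV s2 s3
  have kC : ι k ∈ 𝐂[kV.map ι] := by
    rintro _ ⟨x, hx, rfl⟩
    rw [← map_mul, ← map_mul, A_V k hk x hx]
  have τN : ι kt * θ pc * (ι kt)⁻¹ ∈ 𝐍[kV.map ι] := mem_normalizer_of_cj_le (cj_map_le fun x hx => by
    have e1 := d.r2
    have e2 : Cj ι (ι kt * θ pc * (ι kt)⁻¹) v2 (v2 * z2) := by
      have : Cj ι (θ pc) v1 (v1 * z1) := by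
        rw [Cj, map_mul, ← d.tz1, ← d.tv, ← map_inv, ← map_mul, ← map_mul, ← map_mul]
        congr 1; decide +kernel
      have := ((Cj.of' (ι := ι) (k := kt) (x := v1) (y := v2) (by decide +kernel)).symm.trans this).trans
        (Cj.of' (k := kt) (y := v2 * z2) (by decide +kernel))
      rwa [← mul_assoc] at this
    obtain ⟨a, b, rfl⟩ := V_gen x hx
    exact ⟨_, mul_mem (pow_mem (by decide +kernel) _) (pow_mem (by decide +kernel) _),
      (Cj.pow e1 _).mul (Cj.pow e2 _)⟩)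
  refine endgame (((𝐂[kV.map ι]).subgroupOf 𝐍[kV.map ι]).map π) (π.comp θ')
    ((injective_iff_map_eq_one _).2 fun s r => ?_) (fun s => mL.2 (θC s)) ?_
    (σ := π ⟨σ, CN σC⟩) (σ' := π ⟨ι k * σ, CN (mul_mem kC σC)⟩) (α := π ⟨ι u2, mem_norm_map V_norm⟩)
    (τ := π ⟨_, τN⟩) (mL.2 σC) ?_ (mL.2 (mul_mem kC σC)) ?_ (fun s => ?_) (fun s => ?_) ?_
    (fun r => ?_) (rank_lift π hπ ?_ h)
  · obtain ⟨v, hv, e⟩ := π1.1 r
    have : ∀ s', s' * s = s * s' := fun s' => d.tinj (by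
      rw [map_mul, map_mul, show θ s = ι v from e.symm]
      exact mem_centralizer_singleton_iff.1 (cj_self.1 (d.c1 s' (V_t v hv))))
    exact s4_c s this
  · rintro _ ⟨a, ha, rfl⟩ r
    obtain ⟨v, hv, e⟩ := (π1 (a := a * θ' pz * a⁻¹ * (θ' pz)⁻¹)).1 (by
      rw [map_mul, map_mul, map_mul, map_inv, map_inv, mul_inv_eq_one, mul_inv_eq_iff_eq_mul]; exact r)
    have e1 : Cj ι a z1 (v * z1) := by
      rw [Cj, map_mul, e, ← d.tz1]
      exact (inv_mul_cancel_right _ _).symm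
    rcases lab_V v hv with rfl | l
    · rw [one_mul] at e1
      obtain ⟨y, hy, e2⟩ := d.cK e1 (cV' ha (by decide +kernel)) (cV' ha (by decide +kernel))
      obtain ⟨u, hu, h1⟩ := R_dec y hy
      obtain ⟨s, hs⟩ := d.exD h1
      refine ⟨s, ?_⟩
      rw [MonoidHom.comp_apply, ← inv_mul_eq_one, ← map_inv, ← map_mul, π1]
      refine ⟨u⁻¹, inv_mem hu, ?_⟩
      change ι u⁻¹ = (θ s)⁻¹ * a
      rw [hs, ← e2]; simp
    · exact (d.no ⟨_, e1.symm⟩ (d.f2 l)).elim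
  · rw [MonoidHom.comp_apply, MonoidHom.comp_apply, ← map_inv, ← map_mul, ← map_mul]
    exact congrArg π (Subtype.ext (by
      change σ * θ pu * σ⁻¹ = θ pz
      rw [d.tu, d.tz1]; exact s1))
  · rw [MonoidHom.comp_apply, ← map_inv, ← map_mul, ← map_mul, ← map_mul]
    exact congrArg π (Subtype.ext (by
      change ι k * σ * ι u2 * (ι k * σ)⁻¹ = θ pu * ι u2
      rw [d.tu, ← map_mul]; exact s4))
  · rw [MonoidHom.comp_apply, ← map_mul, ← map_mul]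
    exact congrArg π (Subtype.ext (mem_centralizer_singleton_iff.1
      (cj_self.1 (d.c1 s (x := u2) (by decide +kernel)))).symm)
  · rw [MonoidHom.comp_apply, ← map_mul, ← map_mul]
    exact congrArg π (Subtype.ext (d.comm s pc).symm)
  · rw [← map_pow, ← map_one π]
    refine congrArg π (Subtype.ext ?_)
    change (ι kt * θ pc * (ι kt)⁻¹) ^ 3 = 1
    rw [conj_pow, ← map_pow, show pc ^ 3 = 1 by decide +kernel]; simp
  · exact absurd ((d.r2.eq_iff i (cV' (mL.1 r) (x := z2) (by decide +kernel))).1 rfl) (by decide +kernel)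
  · rw [QuotientGroup.ker_mk']
    exact Amb.isPGroup_subgroupOf (d.pg kV) _

end Cfsg.Agent.W42
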